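import Groth.Agent.NFHilb12.Hilb
import Groth.Agent.SkEmb.Main
import Mathlib

/-!
# The ranks of the pieces of a normally flat module, read off at the generic point
-/

set_option autoImplicit false
set_option linter.style.haveILetI false

universe u

open IsLocalRing

namespace Groth.Agent.NFHilb12

variable {R : Type u} [CommRing R] [IsLocalRing R] [IsNoetherianRing R] {K : Ideal R}
  {N : Type u} [AddCommGroup N] [Module R N] [Module.Finite R N]

theorem finrank_eq_of_equiv (hK : K ≤ maximalIdeal R) {Q : Type u} [AddCommGroup Q] [Module R Q]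
    [Module.Finite R Q] {r : ℕ} (e : Q ≃ₗ[R] (Fin r → R ⧸ K)) :
    Module.finrank (R ⧸ maximalIdeal R) (Q ⧸ (maximalIdeal R • (⊤ : Submodule R Q))) = r := by
  classical
  letI := Ideal.Quotient.field (maximalIdeal R)
  haveI : IsSimpleModule R (R ⧸ maximalIdeal R) :=
    isSimpleModule_iff_isCoatom.2 (maximalIdeal.isMaximal R).out
  let φ : Q →ₗ[R] (Fin r → R ⧸ maximalIdeal R) :=
    (LinearMap.pi fun i => (Submodule.factor hK) ∘ₗ LinearMap.proj i) ∘ₗ e.toLinearMap
  have hφ : Function.Surjective φ := by
    intro z
    choose y hy using fun i => Submodule.factor_surjective hK (z i)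
    exact ⟨e.symm y, funext fun i => by simp [φ, hy i]⟩
  have hker : LinearMap.ker φ = maximalIdeal R • (⊤ : Submodule R Q) := by
    refine le_antisymm (fun x hx => ?_) (Submodule.smul_le.2 fun a ha x _ => ?_)
    · rw [← e.symm_apply_apply x, ← Finset.univ_sum_single (e x), map_sum]
      refine Submodule.sum_mem _ fun i _ => ?_
      obtain ⟨a, ha⟩ := Ideal.Quotient.mk_surjective (e x i)
      have h0 : φ x i = 0 := by rw [LinearMap.mem_ker.1 hx]; rfl
      have ham : a ∈ maximalIdeal R := by
        refine Ideal.Quotient.eq_zero_iff_mem.1 (Eq.trans ?_ h0)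
        show Submodule.factor hK (Ideal.Quotient.mk K a) = Submodule.factor hK (e x i)
        rw [ha]
      rw [← ha, show Ideal.Quotient.mk K a = a • (1 : R ⧸ K) by
        rw [Algebra.smul_def, mul_one]; rfl, Pi.single_smul', map_smul]
      exact Submodule.smul_mem_smul ham trivial
    · rw [LinearMap.mem_ker, map_smul]
      funext i
      obtain ⟨b, hb⟩ := Ideal.Quotient.mk_surjective (φ x i)
      rw [Pi.smul_apply, ← hb, Algebra.smul_def, Ideal.Quotient.algebraMap_eq, ← map_mul, Pi.zero_apply,
        Ideal.Quotient.eq_zero_iff_mem]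
      exact Ideal.mul_mem_right _ _ ha
  have h1 : Module.length R (Q ⧸ (maximalIdeal R • (⊤ : Submodule R Q))) = (r : ℕ∞) := by
    rw [((Submodule.quotEquivOfEq _ _ hker.symm).trans (φ.quotKerEquivOfSurjective hφ)).length_eq,
      NFDim6.length_pi, Module.length_eq_one, mul_one]
  rw [length_eq_finrank] at h1
  exact_mod_cast h1

theorem length_localized_quotient_prime [K.IsPrime] :
    Module.length (Localization.AtPrime K) (LocalizedModule K.primeCompl (R ⧸ K)) = 1 := by
  refine Module.length_eq_one_iff.2 (isSimpleModule_iff_toSpanSingleton_surjective.2 ⟨?_, ?_⟩)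
  · refine (Module.mem_support_iff (p := ⟨K, inferInstance⟩)).1 ?_
    rw [Module.support_eq_zeroLocus, Ideal.annihilator_quotient]
    exact le_refl K
  · intro v hv w
    induction v using LocalizedModule.induction_on with
    | _ a s =>
    induction w using LocalizedModule.induction_on with
    | _ b t =>
    obtain ⟨a, rfl⟩ := Ideal.Quotient.mk_surjective a
    obtain ⟨b, rfl⟩ := Ideal.Quotient.mk_surjective b
    have ha : a ∈ K.primeCompl := fun ha => hv (by
      rw [Ideal.Quotient.eq_zero_iff_mem.2 ha, LocalizedModule.zero_mk])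
    refine ⟨Localization.mk (b * (s : R)) (t * ⟨a, ha⟩), ?_⟩
    rw [LinearMap.toSpanSingleton_apply, LocalizedModule.mk_smul_mk, LocalizedModule.mk_eq]
    refine ⟨1, ?_⟩
    simp only [one_smul, Submonoid.smul_def, Submonoid.coe_mul, Algebra.smul_def,
      Ideal.Quotient.algebraMap_eq, map_mul]
    ring

/-- The partial sums of the ranks are lengths at the prime `K`. -/
theorem length_eq_sum_finrank [IsRegularLocalRing (R ⧸ K)] [K.IsPrime]
    (hM : EGA4.IsNormallyFlat K N) {S : Type u} [CommRing S] [IsLocalRing S] [Algebra R S]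
    [IsLocalization.AtPrime S K] {N' : Type u} [AddCommGroup N'] [Module R N'] [Module S N']
    [IsScalarTower R S N'] (φ : N →ₗ[R] N') [IsLocalizedModule K.primeCompl φ] (j : ℕ) :
    Module.length S (N' ⧸ (maximalIdeal S ^ j • (⊤ : Submodule S N'))) =
      ((∑ k ∈ Finset.range j, Module.finrank (R ⧸ maximalIdeal R)
        (Q K N k ⧸ (maximalIdeal R • (⊤ : Submodule R (Q K N k)))) : ℕ) : ℕ∞) := by
  have hK : K ≠ ⊤ := Ideal.IsPrime.ne_top inferInstance
  choose r hr using NFDim6.exists_rank K N hK hM
  have hr' : ∀ k, Module.finrank (R ⧸ maximalIdeal R)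
      (Q K N k ⧸ (maximalIdeal R • (⊤ : Submodule R (Q K N k)))) = r k := fun k => by
    obtain ⟨e⟩ := hr k
    exact finrank_eq_of_equiv (le_maximalIdeal hK) e
  simp only [hr']
  let L := Localization.AtPrime K
  let a : L ≃ₐ[R] S := IsLocalization.algEquiv K.primeCompl L S
  letI : Algebra L S := a.toAlgHom.toRingHom.toAlgebra
  letI : Module L N' := Module.compHom N' (algebraMap L S)
  haveI : IsScalarTower L S N' := IsScalarTower.of_algebraMap_smul fun _ _ => rfl
  haveI : IsScalarTower R L N' := IsScalarTower.of_algebraMap_smul fun x n => by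
    show algebraMap L S (algebraMap R L x) • n = x • n
    rw [show algebraMap L S (algebraMap R L x) = algebraMap R S x from a.commutes x, algebraMap_smul]
  have ha : Function.Surjective (algebraMap L S) := a.surjective
  have h1 := NFDim6.length_localized K N hr K j
  rw [length_localized_quotient_prime, mul_one] at h1
  rw [← h1, ← Module.length_eq_of_surjective (S := L) (R := S) ha]
  let e : LocalizedModule K.primeCompl N ≃ₗ[L] N' :=
    (IsLocalizedModule.iso K.primeCompl φ).extendScalarsOfIsLocalization K.primeCompl L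
  have hmap : (maximalIdeal L).map (algebraMap L S) = maximalIdeal S := by
    refine le_antisymm (Ideal.map_le_iff_le_comap.2 fun x hx => ?_) fun y hy => ?_
    · rw [Ideal.mem_comap, IsLocalRing.mem_maximalIdeal]
      exact fun hu => (IsLocalRing.mem_maximalIdeal x).1 hx
        ((isUnit_map_iff a.toRingEquiv x).1 hu)
    · obtain ⟨x, rfl⟩ := ha y
      refine Ideal.mem_map_of_mem _ ((IsLocalRing.mem_maximalIdeal x).2 fun hu => ?_)
      exact (IsLocalRing.mem_maximalIdeal _).1 hy (hu.map _)
  have hsub : (maximalIdeal S ^ j • (⊤ : Submodule S N')).restrictScalars L =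
      ((K ^ j).map (algebraMap R L) • (⊤ : Submodule L (LocalizedModule K.primeCompl N))).map
        e.toLinearMap := by
    rw [Submodule.map_smul'', Submodule.map_top, LinearEquiv.range, Ideal.map_pow,
      Localization.AtPrime.map_eq_maximalIdeal, ← hmap, ← Ideal.map_pow, Ideal.smul_restrictScalars,
      Submodule.restrictScalars_top]
  rw [← ((Submodule.Quotient.restrictScalarsEquiv L (maximalIdeal S ^ j • (⊤ : Submodule S N')))).length_eq,
    ← (Submodule.Quotient.equiv _ _ e hsub.symm).length_eq,
    (SkEmb.quotLocalizedEquiv N K.primeCompl (K ^ j)).length_eq]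

end Groth.Agent.NFHilb12
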